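import Groth.Agent.Lib.Helper2.QHomeo.FunSh

/-!
# If pushforward of abelian sheaves is an equivalence, preimage is bijective on opens
-/

set_option autoImplicit false
universe u
open CategoryTheory TopologicalSpace Opposite

namespace Groth.Agent.Lib.Helper2.QHomeo

variable {X₀ X : TopCat.{u}} (f : X₀ ⟶ X)

/-- restriction of sections of a pushforward along opens with the same preimage is injective -/
lemma push_res_injective_ab (H : X₀.Sheaf AddCommGrpCat.{u}) {U W : Opens X} (hWU : W ≤ U)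
    (hpre : (Opens.map f).obj U ≤ (Opens.map f).obj W)
    (a b : ((TopCat.Sheaf.pushforward AddCommGrpCat.{u} f).obj H).presheaf.obj (op U))
    (hab : ((TopCat.Sheaf.pushforward AddCommGrpCat.{u} f).obj H).presheaf.map (homOfLE hWU).op a =
      ((TopCat.Sheaf.pushforward AddCommGrpCat.{u} f).obj H).presheaf.map (homOfLE hWU).op b) :
    a = b := by
  have h1 : ∀ c : H.presheaf.obj (op ((Opens.map f).obj U)),
      H.presheaf.map (homOfLE hpre).op
        (H.presheaf.map ((Opens.map f).map (homOfLE hWU)).op c) = c := by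
    intro c
    have h2 : ((Opens.map f).map (homOfLE hWU)).op ≫ (homOfLE hpre).op = 𝟙 _ :=
      Subsingleton.elim _ _
    have h3 := congrArg (fun g => (H.presheaf.map g).hom c) h2
    simp only [H.presheaf.map_comp, H.presheaf.map_id] at h3
    exact h3
  have h4 := congrArg (H.presheaf.map (homOfLE hpre).op).hom hab
  exact (h1 a).symm.trans (h4.trans (h1 b))

theorem ab_le_of_map_le [(TopCat.Sheaf.pushforward AddCommGrpCat.{u} f).EssSurj] {U V : Opens X}
    (hUV : (Opens.map f).obj U ≤ (Opens.map f).obj V) : U ≤ V := by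
  intro y hyU
  by_contra hyV
  let G : X.Sheaf AddCommGrpCat.{u} := funShAb (fun _ : PUnit.{u+1} => y) (ULift.{u} ℤ)
  let H := (TopCat.Sheaf.pushforward AddCommGrpCat.{u} f).objPreimage G
  let e : (TopCat.Sheaf.pushforward AddCommGrpCat.{u} f).obj H ≅ G :=
    (TopCat.Sheaf.pushforward AddCommGrpCat.{u} f).objObjPreimageIso G
  have hWU : U ⊓ V ≤ U := inf_le_left
  have hpre : (Opens.map f).obj U ≤ (Opens.map f).obj (U ⊓ V) := fun x hx => ⟨hx, hUV hx⟩
  let a : G.presheaf.obj (op U) :=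
    (fun _ => ⟨1⟩ : {τ : PUnit.{u+1} // y ∈ U} → ULift.{u} ℤ)
  let b : G.presheaf.obj (op U) :=
    (fun _ => ⟨0⟩ : {τ : PUnit.{u+1} // y ∈ U} → ULift.{u} ℤ)
  have hres : G.presheaf.map (homOfLE hWU).op a = G.presheaf.map (homOfLE hWU).op b := by
    show (fun τ : {τ : PUnit.{u+1} // y ∈ U ⊓ V} => _) = (fun τ => _)
    funext τ
    exact absurd τ.2.2 hyV
  have hnat : ∀ c : G.presheaf.obj (op U),
      ((TopCat.Sheaf.pushforward AddCommGrpCat.{u} f).obj H).presheaf.map (homOfLE hWU).op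
        (e.inv.hom.app (op U) c) = e.inv.hom.app (op (U ⊓ V)) (G.presheaf.map (homOfLE hWU).op c) :=
    fun c => (NatTrans.naturality_apply e.inv.hom (homOfLE hWU).op c).symm
  have h1 : e.inv.hom.app (op U) a = e.inv.hom.app (op U) b := by
    apply push_res_injective_ab f H hWU hpre
    rw [hnat, hnat, hres]
  have h2 : ∀ c : G.presheaf.obj (op U), e.hom.hom.app (op U) (e.inv.hom.app (op U) c) = c :=
    fun c => congrArg (fun ψ => (ψ.hom.app (op U)).hom c) e.inv_hom_id
  have h3 : a = b := by rw [← h2 a, ← h2 b, h1]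
  have h4 := congrFun (show (a : {τ : PUnit.{u+1} // y ∈ U} → ULift.{u} ℤ) = b from h3)
    ⟨PUnit.unit, hyU⟩
  simp [a, b] at h4

theorem ab_injective [(TopCat.Sheaf.pushforward AddCommGrpCat.{u} f).EssSurj] :
    Function.Injective (fun U : Opens X => (Opens.map f).obj U) := by
  intro U V h
  exact le_antisymm (ab_le_of_map_le f (le_of_eq h)) (ab_le_of_map_le f (le_of_eq h.symm))

section Surj

variable (W₀ : Opens X₀) (x₀ : X₀)

/-- the points outside `W₀` -/
abbrev TTa : Type u := {z : X₀ // z ∉ W₀}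

/-- functions vanishing near `f x₀` -/
def nearSub : AddSubgroup (TTa W₀ → ULift.{u} ℤ) where
  carrier := {h | ∃ U' : Opens X, f x₀ ∈ U' ∧ ∀ τ : TTa W₀, f τ.1 ∈ U' → h τ = 0}
  zero_mem' := ⟨⊤, trivial, fun _ _ => rfl⟩
  add_mem' := by
    rintro h h' ⟨U', h1, h2⟩ ⟨U'', h1', h2'⟩
    refine ⟨U' ⊓ U'', ⟨h1, h1'⟩, fun τ hτ => ?_⟩
    rw [Pi.add_apply, h2 τ hτ.1, h2' τ hτ.2, add_zero]
  neg_mem' := by
    rintro h ⟨U', h1, h2⟩
    refine ⟨U', h1, fun τ hτ => ?_⟩
    rw [Pi.neg_apply, h2 τ hτ, neg_zero]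

/-- the quotient of all functions by vanishing near `f x₀` -/
abbrev AAa : Type u := (TTa W₀ → ULift.{u} ℤ) ⧸ nearSub f W₀ x₀

open Classical in
/-- extension by zero -/
noncomputable def ext0a (U' : Opens X)
    (h : {τ : TTa W₀ // τ.1 ∈ (Opens.map f).obj U'} → ULift.{u} ℤ) : TTa W₀ → ULift.{u} ℤ :=
  fun τ => if hτ : f τ.1 ∈ U' then h ⟨τ, hτ⟩ else 0

lemma ext0a_add (U' : Opens X)
    (h h' : {τ : TTa W₀ // τ.1 ∈ (Opens.map f).obj U'} → ULift.{u} ℤ) :
    ext0a f W₀ U' (h + h') = ext0a f W₀ U' h + ext0a f W₀ U' h' := by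
  funext τ
  unfold ext0a
  by_cases hτ : f τ.1 ∈ U'
  · simp [hτ]
  · simp [hτ]

lemma ext0a_zero (U' : Opens X) : ext0a f W₀ U' 0 = 0 := by
  funext τ
  unfold ext0a
  by_cases hτ : f τ.1 ∈ U'
  · simp [hτ]
  · simp [hτ]

/-- the test morphism between pushforwards -/
noncomputable def psiA :
    (TopCat.Sheaf.pushforward AddCommGrpCat.{u} f).obj
        (funShAb (fun τ : TTa W₀ => τ.1) (ULift.{u} ℤ)) ⟶
      (TopCat.Sheaf.pushforward AddCommGrpCat.{u} f).obj
        (funShAb (fun _ : PUnit.{u+1} => x₀) (AAa f W₀ x₀)) :=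
  ⟨{ app := fun U' => AddCommGrpCat.ofHom
      { toFun := fun h => (fun _ => QuotientAddGroup.mk (ext0a f W₀ U'.unop h) :
          {τ : PUnit.{u+1} // x₀ ∈ (Opens.map f).obj U'.unop} → AAa f W₀ x₀)
        map_zero' := by
          funext σ
          show QuotientAddGroup.mk (ext0a f W₀ U'.unop 0) = (0 : AAa f W₀ x₀)
          rw [ext0a_zero]
          rfl
        map_add' := by
          intro h h'
          funext σ
          show QuotientAddGroup.mk (ext0a f W₀ U'.unop (h + h')) =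
            (QuotientAddGroup.mk (ext0a f W₀ U'.unop h) +
              QuotientAddGroup.mk (ext0a f W₀ U'.unop h') : AAa f W₀ x₀)
          rw [ext0a_add]
          rfl }
     naturality := by
      intro U' U'' g
      ext h
      funext σ
      show (QuotientAddGroup.mk (ext0a f W₀ U''.unop _) : AAa f W₀ x₀) =
        QuotientAddGroup.mk (ext0a f W₀ U'.unop h)
      rw [QuotientAddGroup.eq]
      refine ⟨U''.unop, σ.2, fun τ hτ => ?_⟩
      have hτ' : f τ.1 ∈ U'.unop := leOfHom g.unop hτ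
      rw [Pi.add_apply, Pi.neg_apply]
      unfold ext0a
      rw [dif_pos hτ, dif_pos hτ']
      exact neg_add_cancel _ }⟩

theorem ab_exists_preimage [(TopCat.Sheaf.pushforward AddCommGrpCat.{u} f).Full] :
    ∃ U : Opens X, (Opens.map f).obj U = W₀ := by
  classical
  let U : Opens X := sSup {U' : Opens X | (Opens.map f).obj U' ≤ W₀}
  refine ⟨U, le_antisymm ?_ ?_⟩
  · intro x hx
    have hx' : f x ∈ U := hx
    rw [Opens.mem_sSup] at hx'
    obtain ⟨U', hU', hxU'⟩ := hx'
    exact hU' hxU'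
  · intro x₀ hx₀
    by_contra hfx
    have hfx' : f x₀ ∉ U := hfx
    have hne : ∀ U' : Opens X, f x₀ ∈ U' → ∃ z : X₀, f z ∈ U' ∧ z ∉ W₀ := by
      intro U' hU'
      by_contra hcon
      push_neg at hcon
      have : U' ≤ U := le_sSup (show (Opens.map f).obj U' ≤ W₀ from fun z hz => hcon z hz)
      exact hfx' (this hU')
    let H := funShAb (fun τ : TTa W₀ => τ.1) (ULift.{u} ℤ)
    let S := funShAb (fun _ : PUnit.{u+1} => x₀) (AAa f W₀ x₀)
    obtain ⟨φ, hφ⟩ := (TopCat.Sheaf.pushforward AddCommGrpCat.{u} f).map_surjective (psiA f W₀ x₀)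
    let a : H.presheaf.obj (op ((Opens.map f).obj ⊤)) :=
      (fun _ => ⟨1⟩ : {τ : TTa W₀ // τ.1 ∈ (Opens.map f).obj ⊤} → ULift.{u} ℤ)
    let b : H.presheaf.obj (op ((Opens.map f).obj ⊤)) :=
      (fun _ => ⟨0⟩ : {τ : TTa W₀ // τ.1 ∈ (Opens.map f).obj ⊤} → ULift.{u} ℤ)
    have hle : W₀ ≤ (Opens.map f).obj ⊤ := fun _ _ => trivial
    have hres : H.presheaf.map (homOfLE hle).op a = H.presheaf.map (homOfLE hle).op b := by
      show (fun τ : {τ : TTa W₀ // τ.1 ∈ W₀} => _) = (fun τ => _)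
      funext τ
      exact absurd τ.2 τ.1.2
    have hnat : ∀ c : H.presheaf.obj (op ((Opens.map f).obj ⊤)),
        S.presheaf.map (homOfLE hle).op (φ.hom.app (op ((Opens.map f).obj ⊤)) c) =
          φ.hom.app (op W₀) (H.presheaf.map (homOfLE hle).op c) :=
      fun c => (NatTrans.naturality_apply φ.hom (homOfLE hle).op c).symm
    have h1 : S.presheaf.map (homOfLE hle).op (φ.hom.app (op ((Opens.map f).obj ⊤)) a) =
        S.presheaf.map (homOfLE hle).op (φ.hom.app (op ((Opens.map f).obj ⊤)) b) := by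
      rw [hnat, hnat, hres]
    have h2 := congrFun (show
      (S.presheaf.map (homOfLE hle).op (φ.hom.app (op ((Opens.map f).obj ⊤)) a) :
        {τ : PUnit.{u+1} // x₀ ∈ W₀} → AAa f W₀ x₀) = _ from h1) ⟨PUnit.unit, hx₀⟩
    have h3 : ∀ c : H.presheaf.obj (op ((Opens.map f).obj ⊤)),
        (φ.hom.app (op ((Opens.map f).obj ⊤)) c : {τ : PUnit.{u+1} // x₀ ∈ (Opens.map f).obj ⊤} →
          AAa f W₀ x₀) ⟨PUnit.unit, trivial⟩ =
          QuotientAddGroup.mk (ext0a f W₀ ⊤ c) := by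
      intro c
      have := congrArg (fun ψ => (ψ.hom.app (op (⊤ : Opens X))).hom c) hφ
      exact congrFun this ⟨PUnit.unit, trivial⟩
    have h4 : (QuotientAddGroup.mk (ext0a f W₀ ⊤ a) : AAa f W₀ x₀) =
        QuotientAddGroup.mk (ext0a f W₀ ⊤ b) := by
      rw [← h3 a, ← h3 b]
      exact h2
    rw [QuotientAddGroup.eq] at h4
    obtain ⟨U', hU', hall⟩ := h4
    obtain ⟨z, hzU', hzW⟩ := hne U' hU'
    have h5 := hall ⟨z, hzW⟩ hzU'
    rw [Pi.add_apply, Pi.neg_apply] at h5
    unfold ext0a at h5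
    rw [dif_pos (show f z ∈ (⊤ : Opens X) from trivial),
      dif_pos (show f z ∈ (⊤ : Opens X) from trivial)] at h5
    have h6 := congrArg ULift.down h5
    simp [a, b] at h6

end Surj

end Groth.Agent.Lib.Helper2.QHomeo
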