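import Groth.Agent.Lib.Helper2.QHomeo.FunSh

/-!
# If pushforward of sheaves of sets is an equivalence, preimage is bijective on opens
-/

set_option autoImplicit false
universe u
open CategoryTheory TopologicalSpace Opposite

namespace Groth.Agent.Lib.Helper2.QHomeo

variable {X₀ X : TopCat.{u}} (f : X₀ ⟶ X)

/-- restriction of sections of a pushforward along opens with the same preimage is injective -/
lemma push_res_injective (H : X₀.Sheaf (Type u)) {U W : Opens X} (hWU : W ≤ U)
    (hpre : (Opens.map f).obj U ≤ (Opens.map f).obj W)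
    (a b : ((TopCat.Sheaf.pushforward (Type u) f).obj H).presheaf.obj (op U))
    (hab : ((TopCat.Sheaf.pushforward (Type u) f).obj H).presheaf.map (homOfLE hWU).op a =
      ((TopCat.Sheaf.pushforward (Type u) f).obj H).presheaf.map (homOfLE hWU).op b) : a = b := by
  have h1 : ∀ c : H.presheaf.obj (op ((Opens.map f).obj U)),
      H.presheaf.map (homOfLE hpre).op
        (H.presheaf.map ((Opens.map f).map (homOfLE hWU)).op c) = c := by
    intro c
    have h2 : ((Opens.map f).map (homOfLE hWU)).op ≫ (homOfLE hpre).op = 𝟙 _ :=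
      Subsingleton.elim _ _
    have h3 := congrArg (fun g => H.presheaf.map g c) h2
    simp only [H.presheaf.map_comp, H.presheaf.map_id] at h3
    exact h3
  have h4 := congrArg (H.presheaf.map (homOfLE hpre).op) hab
  exact (h1 a).symm.trans (h4.trans (h1 b))

theorem set_le_of_map_le [(TopCat.Sheaf.pushforward (Type u) f).EssSurj] {U V : Opens X}
    (hUV : (Opens.map f).obj U ≤ (Opens.map f).obj V) : U ≤ V := by
  intro y hyU
  by_contra hyV
  let G : X.Sheaf (Type u) := funSh (fun _ : PUnit.{u+1} => y) (ULift.{u} Bool)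
  let H := (TopCat.Sheaf.pushforward (Type u) f).objPreimage G
  let e : (TopCat.Sheaf.pushforward (Type u) f).obj H ≅ G :=
    (TopCat.Sheaf.pushforward (Type u) f).objObjPreimageIso G
  have hWU : U ⊓ V ≤ U := inf_le_left
  have hpre : (Opens.map f).obj U ≤ (Opens.map f).obj (U ⊓ V) := fun x hx => ⟨hx, hUV hx⟩
  let a : G.presheaf.obj (op U) := fun _ => ⟨true⟩
  let b : G.presheaf.obj (op U) := fun _ => ⟨false⟩
  have hres : G.presheaf.map (homOfLE hWU).op a = G.presheaf.map (homOfLE hWU).op b := by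
    funext τ
    exact absurd τ.2.2 hyV
  have hnat : ∀ c : G.presheaf.obj (op U),
      ((TopCat.Sheaf.pushforward (Type u) f).obj H).presheaf.map (homOfLE hWU).op
        (e.inv.hom.app (op U) c) = e.inv.hom.app (op (U ⊓ V)) (G.presheaf.map (homOfLE hWU).op c) :=
    fun c => (FunctorToTypes.naturality e.inv.hom (homOfLE hWU).op c).symm
  have h1 : e.inv.hom.app (op U) a = e.inv.hom.app (op U) b := by
    apply push_res_injective f H hWU hpre
    rw [hnat, hnat, hres]
  have h2 : ∀ c : G.presheaf.obj (op U), e.hom.hom.app (op U) (e.inv.hom.app (op U) c) = c :=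
    fun c => congrArg (fun ψ => ψ.hom.app (op U) c) e.inv_hom_id
  have h3 : a = b := by rw [← h2 a, ← h2 b, h1]
  have h4 := congrFun h3 ⟨PUnit.unit, hyU⟩
  simp [a, b] at h4

theorem set_injective [(TopCat.Sheaf.pushforward (Type u) f).EssSurj] :
    Function.Injective (fun U : Opens X => (Opens.map f).obj U) := by
  intro U V h
  exact le_antisymm (set_le_of_map_le f (le_of_eq h)) (set_le_of_map_le f (le_of_eq h.symm))

section Surj

variable (W₀ : Opens X₀) (x₀ : X₀)

/-- the points outside `W₀` -/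
abbrev TT : Type u := {z : X₀ // z ∉ W₀}

/-- two functions agree near `f x₀` -/
def nearSetoid : Setoid (TT W₀ → ULift.{u} Bool) where
  r h h' := ∃ U' : Opens X, f x₀ ∈ U' ∧ ∀ τ : TT W₀, f τ.1 ∈ U' → h τ = h' τ
  iseqv :=
    { refl := fun h => ⟨⊤, trivial, fun _ _ => rfl⟩
      symm := fun ⟨U', h1, h2⟩ => ⟨U', h1, fun τ hτ => (h2 τ hτ).symm⟩
      trans := fun ⟨U', h1, h2⟩ ⟨U'', h1', h2'⟩ =>
        ⟨U' ⊓ U'', ⟨h1, h1'⟩, fun τ hτ => (h2 τ hτ.1).trans (h2' τ hτ.2)⟩ }

/-- the quotient of all functions by agreement near `f x₀` -/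
abbrev AA : Type u := Quotient (nearSetoid f W₀ x₀)

open Classical in
/-- extension by `false` -/
noncomputable def ext0 (U' : Opens X)
    (h : {τ : TT W₀ // τ.1 ∈ (Opens.map f).obj U'} → ULift.{u} Bool) : TT W₀ → ULift.{u} Bool :=
  fun τ => if hτ : f τ.1 ∈ U' then h ⟨τ, hτ⟩ else ⟨false⟩

/-- the test morphism between pushforwards -/
noncomputable def psi :
    (TopCat.Sheaf.pushforward (Type u) f).obj (funSh (fun τ : TT W₀ => τ.1) (ULift.{u} Bool)) ⟶
      (TopCat.Sheaf.pushforward (Type u) f).obj (funSh (fun _ : PUnit.{u+1} => x₀) (AA f W₀ x₀)) :=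
  ⟨{ app := fun U' => ↾(fun h _ => Quotient.mk (nearSetoid f W₀ x₀) (ext0 f W₀ U'.unop h))
     naturality := by
      intro U' U'' g
      refine ConcreteCategory.hom_ext _ _ (fun h => ?_)
      funext σ
      apply Quotient.sound
      refine ⟨U''.unop, σ.2, fun τ hτ => ?_⟩
      have hτ' : f τ.1 ∈ U'.unop := leOfHom g.unop hτ
      show ext0 f W₀ U''.unop _ τ = ext0 f W₀ U'.unop h τ
      unfold ext0
      rw [dif_pos hτ, dif_pos hτ']
      rfl }⟩

theorem set_exists_preimage [(TopCat.Sheaf.pushforward (Type u) f).Full] :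
    ∃ U : Opens X, (Opens.map f).obj U = W₀ := by
  classical
  let U : Opens X := sSup {U' : Opens X | (Opens.map f).obj U' ≤ W₀}
  refine ⟨U, le_antisymm ?_ ?_⟩
  · intro x hx
    have hx' : f x ∈ U := hx
    rw [Opens.mem_sSup] at hx'
    obtain ⟨U', hU', hxU'⟩ := hx'
    exact hU' hxU'
  · intro x₀ hx₀
    by_contra hfx
    have hfx' : f x₀ ∉ U := hfx
    have hne : ∀ U' : Opens X, f x₀ ∈ U' → ∃ z : X₀, f z ∈ U' ∧ z ∉ W₀ := by
      intro U' hU'
      by_contra hcon
      push_neg at hcon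
      have : U' ≤ U := le_sSup (show (Opens.map f).obj U' ≤ W₀ from fun z hz => hcon z hz)
      exact hfx' (this hU')
    let H := funSh (fun τ : TT W₀ => τ.1) (ULift.{u} Bool)
    let S := funSh (fun _ : PUnit.{u+1} => x₀) (AA f W₀ x₀)
    obtain ⟨φ, hφ⟩ := (TopCat.Sheaf.pushforward (Type u) f).map_surjective (psi f W₀ x₀)
    let a : H.presheaf.obj (op ((Opens.map f).obj ⊤)) := fun _ => ⟨true⟩
    let b : H.presheaf.obj (op ((Opens.map f).obj ⊤)) := fun _ => ⟨false⟩
    have hle : W₀ ≤ (Opens.map f).obj ⊤ := fun _ _ => trivial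
    have hres : H.presheaf.map (homOfLE hle).op a = H.presheaf.map (homOfLE hle).op b := by
      funext τ
      exact absurd τ.2 τ.1.2
    have hnat : ∀ c : H.presheaf.obj (op ((Opens.map f).obj ⊤)),
        S.presheaf.map (homOfLE hle).op (φ.hom.app (op ((Opens.map f).obj ⊤)) c) =
          φ.hom.app (op W₀) (H.presheaf.map (homOfLE hle).op c) :=
      fun c => (FunctorToTypes.naturality φ.hom (homOfLE hle).op c).symm
    have h1 : S.presheaf.map (homOfLE hle).op (φ.hom.app (op ((Opens.map f).obj ⊤)) a) =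
        S.presheaf.map (homOfLE hle).op (φ.hom.app (op ((Opens.map f).obj ⊤)) b) := by
      rw [hnat, hnat, hres]
    have h2 := congrFun h1 ⟨PUnit.unit, hx₀⟩
    have h3 : ∀ c : H.presheaf.obj (op ((Opens.map f).obj ⊤)),
        (φ.hom.app (op ((Opens.map f).obj ⊤)) c : {τ : PUnit.{u+1} // x₀ ∈ (Opens.map f).obj ⊤} →
          AA f W₀ x₀) ⟨PUnit.unit, trivial⟩ =
          Quotient.mk (nearSetoid f W₀ x₀) (ext0 f W₀ ⊤ c) := by
      intro c
      have := congrArg (fun ψ => ψ.hom.app (op (⊤ : Opens X)) c) hφ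
      exact congrFun this ⟨PUnit.unit, trivial⟩
    have h4 : Quotient.mk (nearSetoid f W₀ x₀) (ext0 f W₀ ⊤ a) =
        Quotient.mk (nearSetoid f W₀ x₀) (ext0 f W₀ ⊤ b) := by
      rw [← h3 a, ← h3 b]
      exact h2
    obtain ⟨U', hU', hall⟩ := Quotient.exact h4
    obtain ⟨z, hzU', hzW⟩ := hne U' hU'
    have h5 := hall ⟨z, hzW⟩ hzU'
    unfold ext0 at h5
    rw [dif_pos (show f z ∈ (⊤ : Opens X) from trivial),
      dif_pos (show f z ∈ (⊤ : Opens X) from trivial)] at h5
    simp [a, b] at h5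

end Surj

end Groth.Agent.Lib.Helper2.QHomeo
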