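import Mathlib

/-!
# Sheaves of arbitrary functions along a map from a set (products of skyscrapers)
-/

set_option autoImplicit false
universe u
open CategoryTheory TopologicalSpace Opposite

namespace Groth.Agent.Lib.Helper2.QHomeo

variable {X : TopCat.{u}} {T : Type u} (t : T → X)

section Core

variable (B : Type u)

/-- gluing of functions -/
theorem exists_unique_glue_fun {ι : Type u} (U : ι → Opens X)
    (sf : ∀ i, {τ : T // t τ ∈ U i} → B)
    (hsf : ∀ i j (τ : T) (hi : t τ ∈ U i) (hj : t τ ∈ U j), sf i ⟨τ, hi⟩ = sf j ⟨τ, hj⟩) :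
    ∃! s : {τ : T // t τ ∈ iSup U} → B, ∀ i (τ : T) (hi : t τ ∈ U i),
      s ⟨τ, (le_iSup U i) hi⟩ = sf i ⟨τ, hi⟩ := by
  have hex : ∀ τ : {τ : T // t τ ∈ iSup U}, ∃ i, t τ.1 ∈ U i := fun τ => Opens.mem_iSup.1 τ.2
  choose idx hidx using hex
  refine ⟨fun τ => sf (idx τ) ⟨τ.1, hidx τ⟩, ?_, ?_⟩
  · intro i τ hi
    exact hsf _ _ τ _ hi
  · intro s' hs'
    funext τ
    have := hs' (idx τ) τ.1 (hidx τ)
    exact this

end Core

section SetValued

variable (B : Type u)

/-- the presheaf of all `B`-valued functions on the fibres of `t` -/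
def funPre : (Opens X)ᵒᵖ ⥤ Type u where
  obj U := {τ : T // t τ ∈ U.unop} → B
  map {U V} g := ↾(fun h τ => h ⟨τ.1, leOfHom g.unop τ.2⟩)
  map_id U := by
    refine ConcreteCategory.hom_ext _ _ (fun h => ?_)
    rfl
  map_comp g g' := by
    refine ConcreteCategory.hom_ext _ _ (fun h => ?_)
    rfl

theorem funPre_isSheaf : TopCat.Presheaf.IsSheaf (funPre t B) := by
  rw [TopCat.Presheaf.isSheaf_iff_isSheafUniqueGluing]
  intro ι U sf hsf
  have hsf' : ∀ i j (τ : T) (hi : t τ ∈ U i) (hj : t τ ∈ U j),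
      (sf i : {τ : T // t τ ∈ U i} → B) ⟨τ, hi⟩ = (sf j : {τ : T // t τ ∈ U j} → B) ⟨τ, hj⟩ := by
    intro i j τ hi hj
    have h1 := hsf i j
    have h2 := congrFun h1 (⟨τ, ⟨hi, hj⟩⟩ : {τ : T // t τ ∈ U i ⊓ U j})
    exact h2
  obtain ⟨s, hs, huniq⟩ := exists_unique_glue_fun t B U (fun i => sf i) hsf'
  refine ⟨s, ?_, ?_⟩
  · intro i
    funext τ
    exact hs i τ.1 τ.2
  · intro s' hs'
    apply huniq
    intro i τ hi
    have := congrFun (hs' i) (⟨τ, hi⟩ : {τ : T // t τ ∈ U i})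
    exact this

/-- the sheaf of all `B`-valued functions on the fibres of `t` -/
def funSh : X.Sheaf (Type u) := ⟨funPre t B, funPre_isSheaf t B⟩

end SetValued

section AbValued

variable (B : Type u) [AddCommGroup B]

/-- the presheaf of abelian groups of all `B`-valued functions on the fibres of `t` -/
def funPreAb : (Opens X)ᵒᵖ ⥤ AddCommGrpCat.{u} where
  obj U := AddCommGrpCat.of ({τ : T // t τ ∈ U.unop} → B)
  map {U V} g := AddCommGrpCat.ofHom
    { toFun := fun h τ => h ⟨τ.1, leOfHom g.unop τ.2⟩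
      map_zero' := rfl
      map_add' := fun _ _ => rfl }
  map_id U := by
    ext h
    rfl
  map_comp g g' := by
    ext h
    rfl

theorem funPreAb_isSheaf : TopCat.Presheaf.IsSheaf (funPreAb t B) := by
  rw [TopCat.Presheaf.isSheaf_iff_isSheaf_comp (forget AddCommGrpCat.{u})]
  rw [TopCat.Presheaf.isSheaf_iff_isSheafUniqueGluing]
  intro ι U sf hsf
  have hsf' : ∀ i j (τ : T) (hi : t τ ∈ U i) (hj : t τ ∈ U j),
      (sf i : {τ : T // t τ ∈ U i} → B) ⟨τ, hi⟩ = (sf j : {τ : T // t τ ∈ U j} → B) ⟨τ, hj⟩ := by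
    intro i j τ hi hj
    have h1 := hsf i j
    have h2 := congrFun h1 (⟨τ, ⟨hi, hj⟩⟩ : {τ : T // t τ ∈ U i ⊓ U j})
    exact h2
  obtain ⟨s, hs, huniq⟩ := exists_unique_glue_fun t B U (fun i => sf i) hsf'
  refine ⟨s, ?_, ?_⟩
  · intro i
    funext τ
    exact hs i τ.1 τ.2
  · intro s' hs'
    apply huniq
    intro i τ hi
    have := congrFun (hs' i) (⟨τ, hi⟩ : {τ : T // t τ ∈ U i})
    exact this

/-- the sheaf of abelian groups of all `B`-valued functions on the fibres of `t` -/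
def funShAb : X.Sheaf AddCommGrpCat.{u} := ⟨funPreAb t B, funPreAb_isSheaf t B⟩

end AbValued

end Groth.Agent.Lib.Helper2.QHomeo
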