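import Mathlib

/-!
# Quasi-homeomorphisms induce equivalences of sheaf categories
-/

set_option autoImplicit false
universe u v w
open CategoryTheory TopologicalSpace

namespace Groth.Agent.Lib.Helper2.QHomeo

variable {X₀ X : TopCat.{u}} (f : X₀ ⟶ X)

/-- preimage is bijective on opens -/
def QH : Prop := Function.Bijective (fun U : Opens X => (Opens.map f).obj U)

variable {f}

lemma mem_map_obj (U : Opens X) (x : X₀) : x ∈ (Opens.map f).obj U ↔ f x ∈ U := Iff.rfl

lemma le_of_map_le (h : Function.Injective (fun U : Opens X => (Opens.map f).obj U))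
    {U V : Opens X} (hUV : (Opens.map f).obj U ≤ (Opens.map f).obj V) : U ≤ V := by
  have h1 : (Opens.map f).obj (U ⊔ V) = (Opens.map f).obj V := by
    apply le_antisymm
    · intro x hx
      rw [mem_map_obj] at hx ⊢
      rcases hx with hx | hx
      · exact hUV hx
      · exact hx
    · intro x hx
      exact Or.inr hx
  have h2 : U ⊔ V = V := h h1
  rw [← h2]
  exact le_sup_left

lemma full_of_inj (h : Function.Injective (fun U : Opens X => (Opens.map f).obj U)) :
    (Opens.map f).Full :=
  ⟨fun {U V} g => ⟨homOfLE (le_of_map_le h (leOfHom g)), Subsingleton.elim _ _⟩⟩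

lemma faithful_map : (Opens.map f).Faithful := ⟨fun _ => Subsingleton.elim _ _⟩

lemma essSurj_of_surj (h : Function.Surjective (fun U : Opens X => (Opens.map f).obj U)) :
    (Opens.map f).EssSurj :=
  ⟨fun W => by
    obtain ⟨U, hU⟩ := h W
    exact ⟨U, ⟨eqToIso hU⟩⟩⟩

lemma isEquivalence_map (h : QH f) : (Opens.map f).IsEquivalence :=
  { faithful := faithful_map
    full := full_of_inj h.1
    essSurj := essSurj_of_surj h.2 }

lemma isDenseSubsite_map (h : QH f) :
    (Opens.map f).IsDenseSubsite (Opens.grothendieckTopology X) (Opens.grothendieckTopology X₀) := by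
  have := isEquivalence_map h
  refine { functorPushforward_mem_iff := ?_ }
  intro U S
  constructor
  · intro hS y hy
    let Vs : Opens X := sSup {V | ∃ g : V ⟶ U, S g}
    have h1 : (Opens.map f).obj U ≤ (Opens.map f).obj Vs := by
      intro x₀ hx₀
      obtain ⟨W₀, k, hk, hxW⟩ := hS x₀ hx₀
      obtain ⟨V, g, k', hg, -⟩ := hk
      rw [mem_map_obj]
      have hxV : f x₀ ∈ V := (leOfHom k') hxW
      exact (le_sSup (show V ∈ {V | ∃ g : V ⟶ U, S g} from ⟨g, hg⟩)) hxV
    have h2 : U ≤ Vs := le_of_map_le h.1 h1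
    have h3 := h2 hy
    rw [Opens.mem_sSup] at h3
    obtain ⟨V, ⟨g, hg⟩, hyV⟩ := h3
    exact ⟨V, g, hg, hyV⟩
  · intro hS x₀ hx₀
    obtain ⟨V, g, hg, hyV⟩ := hS (f x₀) hx₀
    exact ⟨(Opens.map f).obj V, (Opens.map f).map g, ⟨V, g, 𝟙 _, hg, by simp⟩, hyV⟩

section Push

variable (A : Type w) [Category.{v} A]

theorem isEquivalence_pushforward (h : QH f) : (TopCat.Sheaf.pushforward A f).IsEquivalence := by
  have := isEquivalence_map h
  let e : Opens X₀ ≌ Opens X := (Opens.map f).asEquivalence.symm
  have hd : e.inverse.IsDenseSubsite (Opens.grothendieckTopology X) (Opens.grothendieckTopology X₀) :=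
    isDenseSubsite_map h
  let E := e.sheafCongr (Opens.grothendieckTopology X₀) (Opens.grothendieckTopology X) A
  let iso : TopCat.Sheaf.pushforward A f ≅ E.functor :=
    NatIso.ofComponents (fun F => Iso.refl _) (by
      intro F G φ
      apply Sheaf.hom_ext
      ext U
      have h1 : ((TopCat.Sheaf.pushforward A f).map φ ≫
          (Iso.refl ((TopCat.Sheaf.pushforward A f).obj G)).hom).hom.app U =
          ((TopCat.Sheaf.pushforward A f).map φ).hom.app U ≫ 𝟙 _ := rfl
      have h2 : ((Iso.refl ((TopCat.Sheaf.pushforward A f).obj F)).hom ≫ E.functor.map φ).hom.app U =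
          𝟙 _ ≫ (E.functor.map φ).hom.app U := rfl
      refine h1.trans (Eq.trans ?_ h2.symm)
      rw [Category.comp_id, Category.id_comp]
      rfl)
  exact Functor.isEquivalence_of_iso iso.symm

end Push

end Groth.Agent.Lib.Helper2.QHomeo
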